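import Mathlib
import Groth.Agent.Lib.Helper19.OmegaFib.Cotangent

/-!
# Number of generators of a finite module near a prime, and ranks of fibres of `Ω`
under base field extension (helper19, for S17877)
-/

namespace Groth.Agent.Helper19.FibreGen

open scoped TensorProduct
open IsLocalRing

universe u

section Gen

variable {A : Type*} [CommRing A] {M : Type*} [AddCommGroup M] [Module A M] [Module.Finite A M]

/-- Nakayama: a finite module is generated near `m` by `finrank κ(m) ⊗ M` elements. -/
theorem exists_finset_smul_mem_span (m : Ideal A) [m.IsPrime] :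
    ∃ t : Finset M, t.card ≤ Module.finrank m.ResidueField (m.ResidueField ⊗[A] M) ∧
      ∀ x : M, ∃ s ∉ m, s • x ∈ Submodule.span A (t : Set M) := by
  classical
  obtain ⟨S, hSdef⟩ : ∃ S : Set (m.ResidueField ⊗[A] M),
      S = Set.range (fun x : M => (1 : m.ResidueField) ⊗ₜ[A] x) := ⟨_, rfl⟩
  have hS : ⊤ ≤ Submodule.span m.ResidueField S := by
    rw [top_le_iff, _root_.eq_top_iff]
    rintro z -
    induction z using TensorProduct.induction_on with
    | zero => exact zero_mem _
    | tmul a x =>
      have : a ⊗ₜ[A] x = a • ((1 : m.ResidueField) ⊗ₜ[A] x) := by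
        rw [TensorProduct.smul_tmul', smul_eq_mul, mul_one]
      rw [this]
      exact Submodule.smul_mem _ _ (Submodule.subset_span (hSdef ▸ ⟨x, rfl⟩))
    | add a b ha hb => exact add_mem ha hb
  let b := Module.Basis.ofSpan hS
  haveI : Fintype ((linearIndepOn_empty m.ResidueField id).extend (Set.empty_subset S)) :=
    FiniteDimensional.fintypeBasisIndex b
  have hcard : Module.finrank m.ResidueField (m.ResidueField ⊗[A] M) =
      Fintype.card ((linearIndepOn_empty m.ResidueField id).extend (Set.empty_subset S)) :=
    Module.finrank_eq_card_basis b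
  have hbS : ∀ i, ∃ x : M, (1 : m.ResidueField) ⊗ₜ[A] x = b i := by
    intro i
    have : b i ∈ S := Module.Basis.ofSpan_subset hS ⟨i, rfl⟩
    have hS' : ∀ z ∈ S, ∃ x : M, (1 : m.ResidueField) ⊗ₜ[A] x = z := by
      intro z hz
      rw [hSdef] at hz
      exact hz
    exact hS' _ this
  choose xs hxs using hbS
  refine ⟨Finset.univ.image xs, ?_, ?_⟩
  · rw [hcard]
    exact Finset.card_image_le.trans (by simp)
  · obtain ⟨N, hN⟩ : ∃ N : Submodule A M,
        N = Submodule.span A ((Finset.univ.image xs : Finset M) : Set M) := ⟨_, rfl⟩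
    rw [← hN]
    -- the fibre of `M ⧸ N` vanishes
    have hsub : Subsingleton (m.ResidueField ⊗[A] (M ⧸ N)) := by
      have hsurj : Function.Surjective (N.mkQ.baseChange m.ResidueField) := by
        have := LinearMap.lTensor_surjective m.ResidueField (Submodule.mkQ_surjective N)
        intro y
        obtain ⟨z, hz⟩ := this y
        exact ⟨z, hz⟩
      have hzero : N.mkQ.baseChange m.ResidueField = 0 := by
        apply b.ext
        intro i
        rw [← hxs i, LinearMap.baseChange_tmul, LinearMap.zero_apply]
        have : N.mkQ (xs i) = 0 := by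
          rw [Submodule.mkQ_apply, Submodule.Quotient.mk_eq_zero, hN]
          exact Submodule.subset_span (by simp)
        rw [this, TensorProduct.tmul_zero]
      refine ⟨fun y z => ?_⟩
      obtain ⟨y', rfl⟩ := hsurj y
      obtain ⟨z', rfl⟩ := hsurj z
      rw [hzero]
      rfl
    have hsupp : (⟨m, inferInstance⟩ : PrimeSpectrum A) ∉ Module.support A (M ⧸ N) := by
      rw [Module.mem_support_iff_nontrivial_residueField_tensorProduct]
      exact not_nontrivial_iff_subsingleton.mpr hsub
    rw [Module.notMem_support_iff'] at hsupp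
    intro x
    obtain ⟨r, hr, hrx⟩ := hsupp (N.mkQ x)
    refine ⟨r, hr, ?_⟩
    rw [← map_smul, Submodule.mkQ_apply, Submodule.Quotient.mk_eq_zero] at hrx
    exact hrx

/-- If the fibre of `M` at `m` has dimension `≤ n`, then for every prime `p ≤ m` the
localization `M_p` is generated by `≤ n` elements. -/
theorem exists_finset_span_localizedModule (m p : Ideal A) [m.IsPrime] [p.IsPrime] (hpm : p ≤ m)
    (n : ℕ) (hn : Module.finrank m.ResidueField (m.ResidueField ⊗[A] M) ≤ n) :
    ∃ s : Finset (LocalizedModule p.primeCompl M), s.card ≤ n ∧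
      Submodule.span (Localization.AtPrime p) (s : Set (LocalizedModule p.primeCompl M)) = ⊤ := by
  classical
  obtain ⟨t, htcard, ht⟩ := exists_finset_smul_mem_span (M := M) m
  refine ⟨t.image (LocalizedModule.mkLinearMap p.primeCompl M),
    Finset.card_image_le.trans (htcard.trans hn), ?_⟩
  have hmap : ∀ z ∈ Submodule.span A (t : Set M),
      LocalizedModule.mkLinearMap p.primeCompl M z ∈ Submodule.span (Localization.AtPrime p)
        ((t.image (LocalizedModule.mkLinearMap p.primeCompl M) : Finset _) :
          Set (LocalizedModule p.primeCompl M)) := by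
    intro z hz
    induction hz using Submodule.span_induction with
    | mem z hz =>
      exact Submodule.subset_span (by
        rw [Finset.coe_image]
        exact ⟨z, hz, rfl⟩)
    | zero => rw [map_zero]; exact zero_mem _
    | add a b _ _ ha hb => rw [map_add]; exact add_mem ha hb
    | smul c a _ ha =>
      rw [map_smul, ← algebraMap_smul (Localization.AtPrime p) c]
      exact Submodule.smul_mem _ _ ha
  rw [_root_.eq_top_iff]
  rintro y -
  induction y using LocalizedModule.induction_on with
  | h x u =>
    obtain ⟨r, hr, hrx⟩ := ht x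
    have hrp : r ∈ p.primeCompl := fun h => hr (hpm h)
    have h1 := hmap _ hrx
    have h2 : LocalizedModule.mk x u =
        (Localization.mk (1 : A) (u * ⟨r, hrp⟩) : Localization.AtPrime p) •
          LocalizedModule.mkLinearMap p.primeCompl M (r • x) := by
      rw [LocalizedModule.mkLinearMap_apply, LocalizedModule.mk_smul_mk, one_smul, mul_one,
        mul_comm u]
      exact (LocalizedModule.mk_cancel_common_left (⟨r, hrp⟩ : p.primeCompl) u x).symm
    rw [h2]
    exact Submodule.smul_mem _ _ h1

end Gen

section BaseChange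

/-- base change of a fibre along a residue field extension does not change the dimension -/
theorem finrank_tensor_eq_of_tower (C F1 F2 M : Type*) [CommRing C] [Field F1] [Field F2]
    [Algebra C F1] [Algebra C F2] [Algebra F1 F2] [IsScalarTower C F1 F2]
    [AddCommGroup M] [Module C M] :
    Module.finrank F2 (F2 ⊗[C] M) = Module.finrank F1 (F1 ⊗[C] M) := by
  rw [← (TensorProduct.AlgebraTensorModule.cancelBaseChange C F1 F2 F2 M).finrank_eq,
    Module.finrank_baseChange]

/-- heights do not increase along integral extensions -/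
theorem height_le_height_comap_of_isIntegral {C C' : Type*} [CommRing C] [CommRing C']
    [Algebra C C'] [Algebra.IsIntegral C C'] (P : Ideal C') [hP : P.IsPrime] :
    P.height ≤ (P.comap (algebraMap C C')).height := by
  have hmono : StrictMono (PrimeSpectrum.comap (algebraMap C C')) := by
    intro I J hIJ
    rw [← PrimeSpectrum.asIdeal_lt_asIdeal] at hIJ ⊢
    obtain ⟨x, hxJ, hxI⟩ := SetLike.exists_of_lt hIJ
    exact Ideal.comap_lt_comap_of_integral_mem_sdiff hIJ.le ⟨hxJ, hxI⟩
      (Algebra.IsIntegral.isIntegral x)
  have h := Order.height_le_height_apply_of_strictMono _ hmono (⟨P, hP⟩ : PrimeSpectrum C')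
  rw [← PrimeSpectrum.height_eq_orderHeight, ← PrimeSpectrum.height_eq_orderHeight] at h
  exact h

variable (K C L : Type u) [Field K] [CommRing C] [Algebra K C] [Field L] [Algebra K L]

attribute [local instance] Algebra.TensorProduct.rightAlgebra

/-- ranks of the fibres of `Ω` are unchanged by a base field extension -/
theorem finrank_fibre_kaehler_baseChange (m : Ideal C) [m.IsPrime] (m' : Ideal (L ⊗[K] C))
    [m'.IsPrime] (hcomap : m = m'.comap (algebraMap C (L ⊗[K] C))) :
    Module.finrank m'.ResidueField (m'.ResidueField ⊗[L ⊗[K] C] Ω[L ⊗[K] C⁄L]) =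
      Module.finrank m.ResidueField (m.ResidueField ⊗[C] Ω[C⁄K]) := by
  letI : Algebra m.ResidueField m'.ResidueField :=
    (Ideal.ResidueField.map m m' (algebraMap C (L ⊗[K] C)) hcomap).toAlgebra
  haveI : IsScalarTower C m.ResidueField m'.ResidueField :=
    IsScalarTower.of_algebraMap_eq fun x => by
      rw [RingHom.algebraMap_toAlgebra, Ideal.ResidueField.map_algebraMap]
      rfl
  let e1 := KaehlerDifferential.tensorKaehlerEquiv K L C (L ⊗[K] C)
  let e2 : m'.ResidueField ⊗[L ⊗[K] C] ((L ⊗[K] C) ⊗[C] Ω[C⁄K]) ≃ₗ[m'.ResidueField]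
      m'.ResidueField ⊗[C] Ω[C⁄K] :=
    TensorProduct.AlgebraTensorModule.cancelBaseChange C (L ⊗[K] C) m'.ResidueField
      m'.ResidueField _
  let e3 : m'.ResidueField ⊗[L ⊗[K] C] ((L ⊗[K] C) ⊗[C] Ω[C⁄K]) ≃ₗ[m'.ResidueField]
      m'.ResidueField ⊗[L ⊗[K] C] Ω[L ⊗[K] C⁄L] :=
    TensorProduct.AlgebraTensorModule.congr (LinearEquiv.refl m'.ResidueField m'.ResidueField) e1
  rw [← e3.finrank_eq, e2.finrank_eq]
  exact finrank_tensor_eq_of_tower C m.ResidueField m'.ResidueField _

end BaseChange

end Groth.Agent.Helper19.FibreGen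

namespace Groth.Agent.Helper19.FibreGen

open scoped TensorProduct
open IsLocalRing

universe u

attribute [local instance] Algebra.TensorProduct.rightAlgebra

theorem finrank_fibre_le (K : Type u) [Field K] (A : Type u) [CommRing A] [Algebra K A]
    [Algebra.FiniteType K A]
    (hhyp : ∀ (q : Ideal (TensorProduct K (AlgebraicClosure K) A)) [q.IsPrime],
      (Module.finrank (IsLocalRing.ResidueField (Localization.AtPrime q))
          (IsLocalRing.CotangentSpace (Localization.AtPrime q)) : ℕ∞) ≤ q.height + 1)
    (d : ℕ) (hd : ringKrullDim A = d) (m : Ideal A) [hm : m.IsMaximal] :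
    Module.finrank m.ResidueField (m.ResidueField ⊗[A] Ω[A⁄K]) ≤ d + 1 := by
  haveI : Algebra.IsIntegral A (AlgebraicClosure K ⊗[K] A) :=
    Algebra.IsPushout.isIntegral K A (AlgebraicClosure K) _
  have hinj : Function.Injective (algebraMap A (AlgebraicClosure K ⊗[K] A)) :=
    Algebra.TensorProduct.includeRight_injective (algebraMap K (AlgebraicClosure K)).injective
  obtain ⟨q, hqmax, hq⟩ := Ideal.exists_ideal_over_maximal_of_isIntegral
    (S := AlgebraicClosure K ⊗[K] A) m (by
      rw [(RingHom.injective_iff_ker_eq_bot _).mp hinj]; exact bot_le)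
  haveI := hqmax.isPrime
  have hcomap : m = q.comap (algebraMap A (AlgebraicClosure K ⊗[K] A)) := hq.symm
  rw [← finrank_fibre_kaehler_baseChange K A (AlgebraicClosure K) m q hcomap,
    Groth.Agent.Helper19.OmegaFib.finrank_fibre_kaehler_eq_localization (AlgebraicClosure K)
      (AlgebraicClosure K ⊗[K] A) q]
  -- the residue field of `q` is `K̄`
  have hsurjκ : Function.Surjective (algebraMap (AlgebraicClosure K)
      (ResidueField (Localization.AtPrime q))) := by
    haveI : Algebra.FiniteType (AlgebraicClosure K) ((AlgebraicClosure K ⊗[K] A) ⧸ q) :=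
      Algebra.FiniteType.of_surjective (Ideal.Quotient.mkₐ (AlgebraicClosure K) q)
        (Ideal.Quotient.mkₐ_surjective _ q)
    letI : Field ((AlgebraicClosure K ⊗[K] A) ⧸ q) := Ideal.Quotient.field q
    haveI : Module.Finite (AlgebraicClosure K) ((AlgebraicClosure K ⊗[K] A) ⧸ q) :=
      finite_of_finite_type_of_isJacobsonRing _ _
    have hs1 : Function.Surjective (algebraMap (AlgebraicClosure K)
        ((AlgebraicClosure K ⊗[K] A) ⧸ q)) :=
      IsAlgClosed.algebraMap_bijective_of_isIntegral.2
    intro x
    obtain ⟨y, rfl⟩ := (Ideal.bijective_algebraMap_quotient_residueField q).surjective x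
    obtain ⟨c, rfl⟩ := hs1 y
    exact ⟨c, (IsScalarTower.algebraMap_apply _ _ _ c)⟩
  rw [← Groth.Agent.Helper19.OmegaFib.finrank_cotangentSpace_eq_finrank_tensor_kaehler
    (AlgebraicClosure K) (Localization.AtPrime q) hsurjκ]
  have h1 := hhyp q
  have h2 : q.height ≤ m.height := by
    rw [hcomap]
    exact height_le_height_comap_of_isIntegral (C := A) q
  have h3 : (m.height : WithBot ℕ∞) ≤ d := by
    rw [← hd]
    exact Ideal.height_le_ringKrullDim_of_ne_top (Ideal.IsPrime.ne_top inferInstance)
  have h3' : m.height ≤ (d : ℕ∞) := by exact_mod_cast h3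
  have h4 : (Module.finrank (ResidueField (Localization.AtPrime q))
      (CotangentSpace (Localization.AtPrime q)) : ℕ∞) ≤ (d : ℕ∞) + 1 :=
    h1.trans (by gcongr; exact h2.trans h3')
  exact_mod_cast h4

end Groth.Agent.Helper19.FibreGen
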